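import Cfsg.Agent.Lib.Transfer.Tate
import Cfsg.Agent.Lib.Fusion.TameChain

/-!
# The theorem of Hall and Wielandt (helper76)

`P` a Sylow subgroup, `Q ≤ P` weakly closed, `[u, z, …, z] = 1` (`p - 1` times) for `u ∈ P`, `z ∈ Q`:
the normaliser of `Q` controls the `p`-residual.

* `binom_alternating`: `(-1)^(p-1-i) C(p-1, i) = 1` in `ZMod p`
* `prod_conj_eq_iter`: `∏_{i<p} χ(z⁻ⁱ k zⁱ) = χ([k, z, …, z])`
* `extend_hom`: every homomorphism to a group of exponent `p` extends
* `pResidual_inf_eq`: the theorem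
-/

set_option autoImplicit false
set_option linter.style.haveILetI false

open Subgroup
open scoped Pointwise

universe u

namespace Cfsg.Agent.HallWielandt

theorem choose_pred {p : ℕ} [hp : Fact p.Prime] : ∀ i ≤ p - 1, (((p - 1).choose i : ℕ) : ZMod p) = (-1) ^ i := by
  intro i
  induction i with
  | zero => simp
  | succ i ih =>
    intro hi
    have hd : ((p.choose (i + 1) : ℕ) : ZMod p) = 0 :=
      (ZMod.natCast_eq_zero_iff _ _).mpr (hp.out.dvd_choose_self (by omega) (by omega))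
    obtain ⟨n, hn⟩ : ∃ n, p = n + 1 := ⟨p - 1, by have := hp.out.one_lt; omega⟩
    have h1 : p.choose (i + 1) = (p - 1).choose i + (p - 1).choose (i + 1) := by
      conv_lhs => rw [hn]
      rw [Nat.choose_succ_succ, show p - 1 = n by omega]
    rw [h1, Nat.cast_add, ih (by omega)] at hd
    rw [eq_neg_of_add_eq_zero_right hd, pow_succ, mul_neg_one]

theorem binom_alternating {p : ℕ} [hp : Fact p.Prime] {i : ℕ} (hi : i ≤ p - 1) :
    (((-1) ^ (p - 1 - i) * ((p - 1).choose i) : ℤ) : ZMod p) = 1 := by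
  push_cast
  rw [choose_pred i hi, ← pow_add, Nat.sub_add_cancel hi]
  exact ZMod.pow_card_sub_one_eq_one (neg_ne_zero.mpr one_ne_zero)

variable {G : Type u} [Group G] {p : ℕ}

/-- The commutator map `y ↦ y⁻¹ z⁻¹ y z`. -/
def comm (z : G) (y : G) : G := y⁻¹ * z⁻¹ * y * z

theorem conj_comm (z y : G) : z⁻¹ * comm z y * z = comm z (z⁻¹ * y * z) := by
  simp [comm, mul_assoc]

theorem comm_mem {R : Subgroup G} {z : G} (hz : z ∈ normalizer (R : Set G)) {y : G} (hy : y ∈ R) : comm z y ∈ R := by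
  have := mul_mem (inv_mem hy) ((mem_normalizer_iff''.mp hz y).mp hy)
  simpa [comm, mul_assoc] using this

/-- The product of the conjugates of `k` under the powers of `z` is an iterated commutator, seen through a
homomorphism into a group of exponent `p`. -/
theorem prod_conj_eq_iter [hp : Fact p.Prime] {A : Type*} [CommGroup A] (hA : ∀ a : A, a ^ p = 1) {R : Subgroup G}
    {z : G} (hz : z ∈ normalizer (R : Set G)) (χ : G → A) (hχ : ∀ a ∈ R, ∀ b ∈ R, χ (a * b) = χ a * χ b)
    {k : G} (hk : k ∈ R) :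
    ∏ i ∈ Finset.range p, χ ((z ^ i)⁻¹ * k * z ^ i) = χ ((comm z)^[p - 1] k) := by
  set c : ℕ → G := fun i => (z ^ i)⁻¹ * k * z ^ i with hc
  have hcR : ∀ i, c i ∈ R := fun i => (mem_normalizer_iff''.mp (pow_mem hz i) k).mp hk
  have hiterR : ∀ (n : ℕ) (y : G), y ∈ R → (comm z)^[n] y ∈ R := by
    intro n
    induction n with
    | zero => exact fun y hy => hy
    | succ n ih => intro y hy; rw [Function.iterate_succ_apply']; exact comm_mem hz (ih y hy)
  have hstep : ∀ (n i : ℕ), z⁻¹ * (comm z)^[n] (c i) * z = (comm z)^[n] (c (i + 1)) := by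
    intro n
    induction n with
    | zero => intro i; simp [hc, pow_succ, mul_assoc]
    | succ n ih => intro i; rw [Function.iterate_succ_apply', Function.iterate_succ_apply', conj_comm, ih]
  let f : ℕ → Additive A := fun i => Additive.ofMul (χ (c i))
  have hdiff : ∀ n i, (fwdDiff 1)^[n] f i = Additive.ofMul (χ ((comm z)^[n] (c i))) := by
    intro n
    induction n with
    | zero => exact fun i => rfl
    | succ n ih =>
      intro i
      rw [Function.iterate_succ_apply', fwdDiff, ih, ih, Function.iterate_succ_apply', ← hstep n i]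
      rw [sub_eq_iff_eq_add, ← ofMul_mul]
      congr 1
      have h1 := hiterR n _ (hcR i)
      rw [mul_comm, ← hχ _ h1 _ (comm_mem hz h1)]
      simp [comm, mul_assoc]
  have h := fwdDiff_iter_eq_sum_shift (1 : ℕ) f (p - 1) 0
  rw [hdiff] at h
  have hc0 : c 0 = k := by simp [hc]
  rw [hc0] at h
  have hp1 : p - 1 + 1 = p := Nat.succ_pred_eq_of_pos hp.out.pos
  rw [hp1] at h
  have hterm : ∀ i ∈ Finset.range p, ((-1 : ℤ) ^ (p - 1 - i) * (p - 1).choose i) • f (0 + i • 1) = f i := by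
    intro i hi
    rw [zero_add, smul_eq_mul, mul_one]
    obtain ⟨e, he⟩ : (p : ℤ) ∣ ((-1 : ℤ) ^ (p - 1 - i) * (p - 1).choose i - 1) := by
      rw [← ZMod.intCast_zmod_eq_zero_iff_dvd, Int.cast_sub, binom_alternating (p := p) (by have := Finset.mem_range.mp hi; omega),
        Int.cast_one, sub_self]
    rw [sub_eq_iff_eq_add.mp he, add_smul, one_smul, mul_smul, natCast_zsmul,
      show p • (e • f i) = 0 from hA _, zero_add]
  rw [Finset.sum_congr rfl hterm] at h
  exact (Additive.ofMul.injective (h.trans (ofMul_prod _ _).symm)).symm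

variable [Finite G] [Fact p.Prime]

/-- The value of `δ` on a conjugate, at a fixed coset. -/
noncomputable def local' {A : Type*} [CommGroup A] (H : Subgroup G) (δ : H →* A) (y : G) : A :=
  open scoped Classical in if h : y ∈ H then δ ⟨y, h⟩ else 1

theorem local'_conj {A : Type*} [CommGroup A] (H : Subgroup G) (δ : H →* A) {h : G} (hh : h ∈ H) (y : G) :
    local' H δ (h⁻¹ * y * h) = local' H δ y := by
  unfold local'
  by_cases hy : y ∈ H
  · rw [dif_pos hy, dif_pos (mul_mem (mul_mem (inv_mem hh) hy) hh)]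
    rw [show (⟨h⁻¹ * y * h, mul_mem (mul_mem (inv_mem hh) hy) hh⟩ : H) = (⟨h, hh⟩ : H)⁻¹ * ⟨y, hy⟩ * ⟨h, hh⟩ from rfl,
      map_mul, map_mul, map_inv, mul_comm _ (δ ⟨y, hy⟩), inv_mul_cancel_right]
  · rw [dif_neg hy, dif_neg fun h' => hy (by simpa [mul_assoc] using mul_mem (mul_mem hh h') (inv_mem hh))]

section Setup

variable (P : Sylow p G) (Q : Subgroup G) (hQ : Cfsg.IsWeaklyClosed Q (P : Subgroup G))

include hQ

theorem sylow_le_normalizer : (P : Subgroup G) ≤ normalizer (Q : Set G) := fun x hx =>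
  Transfer.eq_of_isWeaklyClosed hQ (by
    rintro _ ⟨y, hy, rfl⟩
    exact mul_mem (mul_mem hx (hQ.1 hy)) (inv_mem hx))

/-- A conjugate of `Q` inside its normaliser is `Q`. -/
theorem mem_of_conj_mem {g : G} (hg : ∀ z ∈ Q, g⁻¹ * z * g ∈ normalizer (Q : Set G)) :
    g ∈ normalizer (Q : Set G) := by
  set H := normalizer (Q : Set G)
  set V := Q.map (MulAut.conj g⁻¹).toMonoidHom
  have hVH : V ≤ H := by
    rintro _ ⟨z, hz, rfl⟩
    simpa using hg z hz
  obtain ⟨S, hS⟩ := ((P.isPGroup'.to_le hQ.1).map (MulAut.conj g⁻¹).toMonoidHom).comap_subtype (K := H) |>.exists_le_sylow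
  obtain ⟨h, hh⟩ := MulAction.exists_smul_eq H S (P.subtype (sylow_le_normalizer P Q hQ))
  have hle : Q.map (MulAut.conj ((h : G) * g⁻¹)).toMonoidHom ≤ (P : Subgroup G) := by
    rintro _ ⟨z, hz, rfl⟩
    have hmem : (⟨g⁻¹ * z * g, hg z hz⟩ : H) ∈ (S : Subgroup H) :=
      hS (show g⁻¹ * z * g ∈ V from ⟨z, hz, by simp⟩)
    have h2 : h * ⟨g⁻¹ * z * g, hg z hz⟩ * h⁻¹ ∈ (P.subtype (sylow_le_normalizer P Q hQ) : Sylow p H) := by
      rw [← hh]
      show _ ∈ ((h • S : Sylow p H) : Subgroup H)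
      rw [Sylow.coe_subgroup_smul]
      exact Subgroup.smul_mem_pointwise_smul _ _ _ hmem
    have h3 : ((h * ⟨g⁻¹ * z * g, hg z hz⟩ * h⁻¹ : H) : G) ∈ (P : Subgroup G) := h2
    simpa [mul_assoc] using h3
  have := Transfer.eq_of_isWeaklyClosed hQ hle
  simpa using mul_mem (inv_mem this) h.2

variable (hE : ∀ u ∈ (P : Subgroup G), ∀ z ∈ Q, (comm z)^[p - 1] u = 1)

include hE

/-- The contribution of a `P`-orbit of cosets other than the fixed one. -/
theorem prod_orbit {A : Type*} [CommGroup A] (hA : ∀ a : A, a ^ p = 1) {H : Subgroup G}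
    (hH : H = normalizer (Q : Set G)) (δ : H →* A)
    {g : G} (hg : g ∉ H) {x : G} (hx : x ∈ (P : Subgroup G))
    (R : Subgroup (P : Subgroup G)) (hR : ∀ u : (P : Subgroup G), u ∈ R ↔ g⁻¹ * (u : G) * g ∈ H)
    [Fintype ((P : Subgroup G) ⧸ R)] (f : (P : Subgroup G) ⧸ R → A)
    (hf : ∀ u : (P : Subgroup G), f u = local' H δ ((((u : G) * g))⁻¹ * x * ((u : G) * g))) :
    ∏ w, f w = 1 := by
  classical
  set Q₁ : Subgroup (P : Subgroup G) := Q.subgroupOf P
  haveI : Q₁.Normal := (normal_subgroupOf_iff_le_normalizer hQ.1).mpr (sylow_le_normalizer P Q hQ)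
  have hQR : ¬ Q₁ ≤ R := fun h => hg (hH ▸ mem_of_conj_mem P Q hQ fun z hz =>
    hH ▸ (hR ⟨z, hQ.1 hz⟩).mp (h (mem_subgroupOf.mpr hz)))
  -- an element of `Q` normalising `R`, outside it, whose `p`-th power is inside
  obtain ⟨q, hq, hqN, hqR⟩ : ∃ q ∈ Q₁, q ∈ normalizer (R : Set (P : Subgroup G)) ∧ q ∉ R := by
    have hlt : R < R ⊔ Q₁ := lt_of_le_of_ne le_sup_left fun h => hQR (h ▸ le_sup_right)
    obtain ⟨w, hw, hwR⟩ := SetLike.exists_of_lt
      (TameChain.lt_normalizer (P.isPGroup'.to_subgroup (R ⊔ Q₁)) hlt)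
    obtain ⟨hw1, hw2⟩ := mem_inf.mp hw
    obtain ⟨r, hr, q, hq, rfl⟩ := mem_sup_of_normal_right.mp hw1
    refine ⟨q, hq, ?_, fun h => hwR (mul_mem hr h)⟩
    have := mul_mem (inv_mem (le_normalizer hr)) hw2
    simpa using this
  obtain ⟨z, hzQ, hzN, hzR, hzp⟩ : ∃ z ∈ Q₁, z ∈ normalizer (R : Set (P : Subgroup G)) ∧ z ∉ R ∧ z ^ p ∈ R := by
    obtain ⟨k, hk⟩ := P.isPGroup' q
    have hex : ∃ j, q ^ p ^ j ∈ R := ⟨k, hk ▸ one_mem R⟩
    obtain ⟨j, hj⟩ : ∃ j, Nat.find hex = j + 1 := Nat.exists_eq_succ_of_ne_zero fun h => hqR (by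
      have := Nat.find_spec hex
      rwa [h, pow_zero, pow_one] at this)
    refine ⟨q ^ p ^ j, pow_mem hq _, pow_mem hqN _, Nat.find_min hex (by omega), ?_⟩
    rw [← pow_mul, ← pow_succ, ← hj]
    exact Nat.find_spec hex
  set K := zpowers z ⊔ R with hK
  have hKelt : ∀ k ∈ K, ∃ m : ℤ, ∃ r ∈ R, z ^ m * r = k := by
    intro k hk
    rw [hK, ← SetLike.mem_coe, Subgroup.coe_mul_of_left_le_normalizer_right (zpowers z) R (zpowers_le.mpr hzN)] at hk
    obtain ⟨_, ⟨m, rfl⟩, r, hr, rfl⟩ := hk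
    exact ⟨m, r, hr, rfl⟩
  have hzdiv : ∀ m : ℤ, z ^ m ∈ R → (p : ℤ) ∣ m := by
    intro m hm
    by_contra hd
    apply hzR
    obtain ⟨a, b, hab⟩ := (Nat.prime_iff_prime_int.mp (Fact.out : p.Prime)).irreducible.coprime_iff_not_dvd.mpr hd
    rw [← zpow_one z, ← hab, zpow_add, mul_comm a, zpow_mul, mul_comm b, zpow_mul, zpow_natCast]
    exact mul_mem (zpow_mem hzp a) (zpow_mem hm b)
  let e : ((P : Subgroup G) ⧸ K) × Fin p → (P : Subgroup G) ⧸ R := fun s => QuotientGroup.mk (s.1.out * z ^ (s.2 : ℕ))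
  have he : Function.Bijective e := by
    constructor
    · rintro ⟨c, i⟩ ⟨d, j⟩ h
      have h' : (c.out * z ^ (i : ℕ))⁻¹ * (d.out * z ^ (j : ℕ)) ∈ R := QuotientGroup.eq.mp h
      have hcd : c = d := by
        rw [← c.out_eq', ← d.out_eq']
        refine QuotientGroup.eq.mpr ?_
        have hmem := mul_mem (mul_mem (mem_sup_left (pow_mem (mem_zpowers z) (i : ℕ)) : z ^ (i : ℕ) ∈ K)
          (mem_sup_right h' : _ ∈ K)) (inv_mem (mem_sup_left (pow_mem (mem_zpowers z) (j : ℕ)) : z ^ (j : ℕ) ∈ K))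
        simpa [mul_assoc] using hmem
      subst hcd
      have h2 : z ^ ((j : ℤ) - i) ∈ R := by
        have : z ^ ((j : ℤ) - i) = (c.out * z ^ (i : ℕ))⁻¹ * (c.out * z ^ (j : ℕ)) := by
          rw [zpow_sub, zpow_natCast, zpow_natCast, mul_inv_rev]
          group
        rw [this]
        exact h'
      have hi' : (i : ℕ) < p := i.isLt
      have hj' : (j : ℕ) < p := j.isLt
      have h3 := Int.eq_zero_of_abs_lt_dvd (hzdiv _ h2) (by rw [abs_lt]; omega)
      exact Prod.ext rfl (Fin.ext (show (i : ℕ) = j by omega))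
    · intro w
      induction w using QuotientGroup.induction_on with
      | _ u =>
        set c : (P : Subgroup G) ⧸ K := QuotientGroup.mk u
        obtain ⟨m, r, hr, hmr⟩ := hKelt _ (QuotientGroup.eq.mp c.out_eq')
        have hp0 : (p : ℤ) ≠ 0 := by exact_mod_cast (Fact.out : p.Prime).ne_zero
        refine ⟨⟨c, ⟨(m % p).toNat, by
          rw [Int.toNat_lt (Int.emod_nonneg m hp0)]
          exact Int.emod_lt_of_pos m (by exact_mod_cast (Fact.out : p.Prime).pos)⟩⟩, ?_⟩
        refine QuotientGroup.eq.mpr ?_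
        have hz0 : z ^ (m % p).toNat = z ^ m * ((z ^ p) ^ (m / p))⁻¹ := by
          rw [← zpow_natCast z (m % p).toNat, Int.toNat_of_nonneg (Int.emod_nonneg m hp0),
            Int.emod_def, zpow_sub, zpow_mul, zpow_natCast]
        have hu : u = c.out * (z ^ m * r) := by rw [hmr, mul_inv_cancel_left]
        show (c.out * z ^ (m % p).toNat)⁻¹ * u ∈ R
        rw [hu, hz0]
        simpa [mul_assoc] using mul_mem (zpow_mem hzp (m / p)) hr
  haveI := Fintype.ofFinite ((P : Subgroup G) ⧸ K)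
  rw [← he.prod_comp f, Fintype.prod_prod_type]
  refine Finset.prod_eq_one fun c _ => ?_
  set x' : (P : Subgroup G) := c.out⁻¹ * ⟨x, hx⟩ * c.out
  have hval : ∀ i : ℕ, f (QuotientGroup.mk (c.out * z ^ i)) =
      local' H δ (g⁻¹ * (((z ^ i)⁻¹ * x' * z ^ i : (P : Subgroup G)) : G) * g) := fun i => by
    rw [hf]
    congr 1
    simp [x', mul_assoc]
  simp only [e, hval]
  by_cases hx' : x' ∈ R
  · rw [Fin.prod_univ_eq_prod_range (fun i => local' H δ (g⁻¹ * (((z ^ i)⁻¹ * x' * z ^ i : (P : Subgroup G)) : G) * g)) p,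
      prod_conj_eq_iter (G := (P : Subgroup G)) hA hzN (fun y => local' H δ (g⁻¹ * (y : G) * g)) ?_ hx']
    · have hzero : (comm z)^[p - 1] x' = 1 := by
        refine Subtype.ext ?_
        have hc : ∀ n, (((comm z)^[n] x' : (P : Subgroup G)) : G) = (comm (z : G))^[n] (x' : G) := by
          intro n
          induction n with
          | zero => rfl
          | succ n ih => rw [Function.iterate_succ_apply', Function.iterate_succ_apply', ← ih]; rfl
        rw [hc]
        exact hE x' x'.2 z hzQ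
      rw [hzero]
      simp only [OneMemClass.coe_one, mul_one, inv_mul_cancel]
      rw [local', dif_pos (one_mem H)]
      exact δ.map_one
    · intro a ha b hb
      simp only [local', dif_pos ((hR a).mp ha), dif_pos ((hR b).mp hb), dif_pos ((hR _).mp (mul_mem ha hb))]
      rw [← map_mul]
      exact congrArg δ (Subtype.ext (by simp [mul_assoc]))
  · refine Finset.prod_eq_one fun i _ => ?_
    rw [local', dif_neg]
    intro h
    exact hx' (by
      have := (mem_normalizer_iff''.mp (pow_mem hzN (i : ℕ)) x').mpr ((hR _).mpr h)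
      exact this)

omit hE in
/-- The fixed coset is the trivial one. -/
theorem smul_eq_self_iff {g : G} :
    (∀ u : (P : Subgroup G), (u : G) • (g : G ⧸ normalizer (Q : Set G)) = g) ↔ g ∈ normalizer (Q : Set G) := by
  constructor
  · intro h
    refine mem_of_conj_mem P Q hQ fun z hz => ?_
    have := QuotientGroup.eq.mp (h ⟨z⁻¹, inv_mem (hQ.1 hz)⟩)
    simpa [mul_assoc] using this
  · intro hg u
    rw [MulAction.Quotient.smul_mk, QuotientGroup.eq]
    exact mul_mem (inv_mem (mul_mem (sylow_le_normalizer P Q hQ u.2) hg)) hg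

/-- At an element of least order among those not killed by `δ`, the transfer takes the value of `δ`. -/
theorem transfer_apply_of_minimal {A : Type*} [CommGroup A] (hA : ∀ a : A, a ^ p = 1)
    {H : Subgroup G} (hH : H = normalizer (Q : Set G)) (hPH : (P : Subgroup G) ≤ H)
    (δ : H →* A) (x : G) (hx : x ∈ (P : Subgroup G))
    (hmin : ∀ y (hy : y ∈ (P : Subgroup G)), orderOf y < orderOf x → δ ⟨y, hPH hy⟩ = 1) :
    MonoidHom.transfer δ x = δ ⟨x, hPH hx⟩ := by
  classical
  haveI := Fintype.ofFinite (G ⧸ H)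
  -- small elements of `H` are killed
  have hsmall : ∀ y (hy : y ∈ H), (∃ k, orderOf y = p ^ k) → orderOf y < orderOf x → δ ⟨y, hy⟩ = 1 := by
    intro y hy ⟨k, hk⟩ hlt
    have hpg : IsPGroup p (zpowers (⟨y, hy⟩ : H)) :=
      IsPGroup.of_card (n := k) (by rw [Nat.card_zpowers, Subgroup.orderOf_mk, hk])
    obtain ⟨S, hS⟩ := hpg.exists_le_sylow
    obtain ⟨h, hh⟩ := MulAction.exists_smul_eq H S (P.subtype hPH)
    have h2 : h * ⟨y, hy⟩ * h⁻¹ ∈ (P.subtype hPH : Sylow p H) := by
      rw [← hh]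
      show _ ∈ ((h • S : Sylow p H) : Subgroup H)
      rw [Sylow.coe_subgroup_smul]
      exact Subgroup.smul_mem_pointwise_smul _ _ _ (hS (mem_zpowers _))
    have h2' : ((h * ⟨y, hy⟩ * h⁻¹ : H) : G) ∈ (P : Subgroup G) := h2
    have h3 := hmin ((h * ⟨y, hy⟩ * h⁻¹ : H) : G) h2' (by
      rw [Subgroup.coe_mul, Subgroup.coe_mul, Subgroup.coe_inv, ← MulAut.conj_apply, MulEquiv.orderOf_eq]
      exact hlt)
    rw [Subtype.coe_eta, map_mul, map_mul, map_inv, mul_comm (δ h), mul_inv_cancel_right] at h3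
    exact h3
  let φ : G ⧸ H → A := fun c => Quotient.liftOn' c (fun g => local' H δ (g⁻¹ * x * g)) fun g g' hgg => by
    rw [QuotientGroup.leftRel_apply] at hgg
    have := local'_conj H δ hgg (g⁻¹ * x * g)
    rw [← this]
    congr 1
    group
  have hφ : ∀ g : G, φ (g : G ⧸ H) = local' H δ (g⁻¹ * x * g) := fun g => rfl
  have hφfix : ∀ c : G ⧸ H, φ c ≠ 1 → x • c = c := by
    intro c
    induction c using QuotientGroup.induction_on with
    | _ g =>
      intro h
      rw [hφ, local'] at h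
      split at h
      · rename_i hmem
        rw [MulAction.Quotient.smul_mk, QuotientGroup.eq]
        have := inv_mem hmem
        simpa [mul_assoc] using this
      · exact absurd rfl h
  have hT : MonoidHom.transfer δ x = ∏ c : G ⧸ H, φ c := by
    rw [MonoidHom.transfer_eq_prod_quotient_orbitRel_zpowers_quot,
      ← Fintype.prod_fiberwise (fun c : G ⧸ H => (Quotient.mk'' c : MulAction.orbitRel.Quotient (zpowers x) (G ⧸ H))) φ]
    refine Fintype.prod_congr _ _ fun ω => ?_
    set c₀ : G ⧸ H := ω.out with hc₀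
    set r := Function.minimalPeriod (x • ·) c₀ with hr
    have hout : (Quotient.mk'' c₀ : MulAction.orbitRel.Quotient (zpowers x) (G ⧸ H)) = ω := Quotient.out_eq' ω
    by_cases hfix : x • c₀ = c₀
    · have hr1 : r = 1 := Function.minimalPeriod_eq_one_iff_isFixedPt.mpr hfix
      have huniq : ∀ c : G ⧸ H, (Quotient.mk'' c : MulAction.orbitRel.Quotient (zpowers x) (G ⧸ H)) = ω → c = c₀ := by
        intro c hc
        rw [← hout] at hc
        obtain ⟨⟨_, n, rfl⟩, hn⟩ := Quotient.eq''.mp hc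
        rw [← hn]
        exact MulAction.mem_stabilizer_iff.mp (zpow_mem (show x ∈ MulAction.stabilizer G c₀ from hfix) n)
      refine Eq.trans ?_ (Fintype.prod_eq_single (f := fun c : {c : G ⧸ H // (Quotient.mk'' c : MulAction.orbitRel.Quotient (zpowers x) (G ⧸ H)) = ω} => φ c.1)
        ⟨c₀, hout⟩ fun c hc => absurd (Subtype.ext (huniq c.1 c.2)) hc).symm
      show _ = φ c₀
      conv_rhs => rw [← Quotient.out_eq' c₀]
      show _ = local' H δ (c₀.out⁻¹ * x * c₀.out)
      rw [local', dif_pos (by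
        have := QuotientGroup.out_conj_pow_minimalPeriod_mem H x c₀
        rwa [← hr, hr1, pow_one] at this)]
      exact congrArg δ (Subtype.ext (show c₀.out⁻¹ * x ^ Function.minimalPeriod (x • ·) c₀ * c₀.out = c₀.out⁻¹ * x * c₀.out by rw [← hr, hr1, pow_one]))
    · have hne : ∀ c : G ⧸ H, (Quotient.mk'' c : MulAction.orbitRel.Quotient (zpowers x) (G ⧸ H)) = ω → φ c = 1 := by
        intro c hc
        by_contra h
        apply hfix
        rw [← hout] at hc
        obtain ⟨⟨_, n, rfl⟩, hn⟩ := Quotient.eq''.mp hc.symm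
        have hxc := hφfix c h
        rw [← hn]
        show x • (x ^ n • c) = x ^ n • c
        rw [← mul_smul, (Commute.self_zpow x n).eq, mul_smul, hxc]
      refine Eq.trans ?_ (Fintype.prod_eq_one (fun c : {c : G ⧸ H // (Quotient.mk'' c : MulAction.orbitRel.Quotient (zpowers x) (G ⧸ H)) = ω} => φ c.1) fun c => hne c.1 c.2).symm
      obtain ⟨k, hk⟩ := IsPGroup.iff_orderOf.mp P.isPGroup' ⟨x, hx⟩
      rw [Subgroup.orderOf_mk] at hk
      have hrdvd : r ∣ orderOf x := Function.IsPeriodicPt.minimalPeriod_dvd (by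
        show (x • ·)^[orderOf x] c₀ = c₀
        rw [smul_iterate, pow_orderOf_eq_one]
        exact one_smul G c₀)
      have hr1 : r ≠ 1 := fun h => hfix (Function.minimalPeriod_eq_one_iff_isFixedPt.mp h)
      have hord : orderOf (c₀.out⁻¹ * x ^ r * c₀.out) = orderOf x / r := by
        rw [show c₀.out⁻¹ * x ^ r * c₀.out = MulAut.conj c₀.out⁻¹ (x ^ r) by simp, MulEquiv.orderOf_eq,
          orderOf_pow, Nat.gcd_eq_right hrdvd]
      refine hsmall _ _ ?_ ?_
      · rw [← hr, hord, hk]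
        obtain ⟨i, hik, hi⟩ := (Nat.dvd_prime_pow (Fact.out : p.Prime)).mp (hk ▸ hrdvd)
        exact ⟨k - i, by rw [hi, Nat.pow_div hik (Fact.out : p.Prime).pos]⟩
      · rw [← hr, hord]
        refine Nat.div_lt_self (orderOf_pos x) ?_
        rcases Nat.eq_zero_or_pos r with h0 | h0
        · rw [h0, Nat.zero_dvd] at hrdvd; exact absurd hrdvd (orderOf_pos x).ne'
        · omega
  rw [hT, ← Finset.mul_prod_erase Finset.univ φ (Finset.mem_univ ((1 : G) : G ⧸ H))]
  have h1 : φ ((1 : G) : G ⧸ H) = δ ⟨x, hPH hx⟩ := by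
    rw [hφ, local']
    simp only [inv_one, one_mul, mul_one]
    rw [dif_pos (hPH hx)]
  rw [h1, mul_eq_left]
  -- split the other cosets into orbits of `P`
  let E := MulAction.selfEquivSigmaOrbitsQuotientStabilizer (P : Subgroup G) (G ⧸ H)
  let ψ : G ⧸ H → A := fun c => if c = ((1 : G) : G ⧸ H) then 1 else φ c
  have hψ : ∏ c ∈ Finset.univ.erase ((1 : G) : G ⧸ H), φ c = ∏ c : G ⧸ H, ψ c := by
    rw [← Finset.mul_prod_erase Finset.univ ψ (Finset.mem_univ ((1 : G) : G ⧸ H))]
    simp only [ψ, if_pos, one_mul]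
    exact Finset.prod_congr rfl fun c hc => by rw [if_neg (Finset.ne_of_mem_erase hc)]
  haveI : ∀ ω : MulAction.orbitRel.Quotient (P : Subgroup G) (G ⧸ H),
      Fintype ((P : Subgroup G) ⧸ MulAction.stabilizer (P : Subgroup G) ω.out) := fun ω => Fintype.ofFinite _
  haveI : Fintype (MulAction.orbitRel.Quotient (P : Subgroup G) (G ⧸ H)) := Fintype.ofFinite _
  rw [hψ, ← E.symm.prod_comp, Fintype.prod_sigma]
  refine Fintype.prod_eq_one _ fun ω => ?_
  obtain ⟨g, hg⟩ := QuotientGroup.mk_surjective (s := H) ω.out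
  have hEval : ∀ u : (P : Subgroup G), E.symm ⟨ω, (u : (P : Subgroup G) ⧸ MulAction.stabilizer (P : Subgroup G) ω.out)⟩
      = (((u : G) * g : G) : G ⧸ H) := fun u => by
    show u • ω.out = _
    rw [← hg]; rfl
  by_cases hgH : g ∈ H
  · refine Fintype.prod_eq_one _ fun w => ?_
    induction w using QuotientGroup.induction_on with
    | _ u =>
      rw [hEval]
      refine if_pos (QuotientGroup.eq.mpr ?_)
      simpa using inv_mem (mul_mem (hPH u.2) hgH)
  · refine prod_orbit P Q hQ hE hA hH δ hgH hx _ (fun u => ?_) _ fun u => ?_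
    · rw [MulAction.mem_stabilizer_iff, ← hg]
      show (((u : G) * g : G) : G ⧸ H) = g ↔ _
      rw [QuotientGroup.eq, ← inv_mem_iff]
      simp [mul_assoc]
    · rw [hEval]
      simp only [ψ]
      rw [if_neg, hφ]
      intro h
      apply hgH
      have := mul_mem (inv_mem (hPH u.2)) (inv_mem (QuotientGroup.eq.mp h))
      simpa [mul_assoc] using this

/-- Every homomorphism of the normaliser into a group of exponent `p` extends. -/
theorem extend_hom {A : Type*} [CommGroup A] (hA : ∀ a : A, a ^ p = 1) {H : Subgroup G}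
    (hH : H = normalizer (Q : Set G)) (δ : H →* A) :
    ∃ Δ : G →* A, ∀ h : H, Δ h = δ h := by
  have hPH : (P : Subgroup G) ≤ H := hH ▸ sylow_le_normalizer P Q hQ
  haveI := Fintype.ofFinite (G ⧸ H)
  refine ⟨MonoidHom.transfer δ, ?_⟩
  -- `[G : H] ≡ 1 [MOD p]`
  have hidx : H.index ≡ 1 [MOD p] := by
    have h := P.isPGroup'.card_modEq_card_fixedPoints (G ⧸ H)
    have h1 : Nat.card (MulAction.fixedPoints (P : Subgroup G) (G ⧸ H)) = 1 := by
      rw [Nat.card_eq_one_iff_exists]
      refine ⟨⟨((1 : G) : G ⧸ H), fun u => ?_⟩, ?_⟩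
      · subst hH
        exact (smul_eq_self_iff P Q hQ).mpr (one_mem _) u
      · rintro ⟨c, hc⟩
        refine Subtype.ext ?_
        induction c using QuotientGroup.induction_on with
        | _ g =>
          have hg : g ∈ H := by subst hH; exact (smul_eq_self_iff P Q hQ).mp fun u => hc u
          exact QuotientGroup.eq.mpr (by simpa using hg)
    rw [h1, ← Subgroup.index_eq_card] at h
    exact h
  set d : H →* A := δ * ((MonoidHom.transfer δ).comp H.subtype)⁻¹ with hd
  have hd0 : ∀ x (hx : x ∈ (P : Subgroup G)), d ⟨x, hPH hx⟩ = 1 := by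
    by_contra hne
    push Not at hne
    obtain ⟨x₀, hx₀, hx₀d⟩ := hne
    obtain ⟨x, hx, hxd, hmin⟩ : ∃ x, ∃ hx : x ∈ (P : Subgroup G), d ⟨x, hPH hx⟩ ≠ 1 ∧
        ∀ y (hy : y ∈ (P : Subgroup G)), orderOf y < orderOf x → d ⟨y, hPH hy⟩ = 1 := by
      classical
      obtain ⟨x, hx, hxm⟩ := Set.exists_min_image {x : G | ∃ hx : x ∈ (P : Subgroup G), d ⟨x, hPH hx⟩ ≠ 1} orderOf
        (Set.toFinite _) ⟨x₀, hx₀, hx₀d⟩
      exact ⟨x, hx.1, hx.2, fun y hy hlt => by_contra fun h => absurd (hxm y ⟨hy, h⟩) (not_le.mpr hlt)⟩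
    apply hxd
    rw [← transfer_apply_of_minimal P Q hQ hE hA hH hPH d x hx hmin]
    -- the transfer of `d` is trivial
    have hTd : MonoidHom.transfer d x = MonoidHom.transfer δ x * ((MonoidHom.transfer δ) x ^ H.index)⁻¹ := by
      classical
      haveI : Fintype (Quotient (MulAction.orbitRel (zpowers x) (G ⧸ H))) := Fintype.ofFinite _
      rw [MonoidHom.transfer_eq_prod_quotient_orbitRel_zpowers_quot d,
        MonoidHom.transfer_eq_prod_quotient_orbitRel_zpowers_quot δ, index_eq_sum_minimalPeriod H x,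
        ← Finset.prod_pow_eq_pow_sum, ← Finset.prod_inv_distrib, ← Finset.prod_mul_distrib]
      refine Fintype.prod_congr _ _ fun ω => ?_
      rw [← MonoidHom.transfer_eq_prod_quotient_orbitRel_zpowers_quot δ]
      have key : MonoidHom.transfer δ (ω.out.out⁻¹ * x ^ Function.minimalPeriod (x • ·) ω.out * ω.out.out) =
          MonoidHom.transfer δ x ^ Function.minimalPeriod (x • ·) ω.out := by
        rw [map_mul, map_mul, map_inv, map_pow, mul_comm _ ((MonoidHom.transfer δ) x ^ _), inv_mul_cancel_right]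
      rw [hd, MonoidHom.mul_apply, MonoidHom.inv_apply, MonoidHom.comp_apply, Subgroup.coe_subtype, key]
    rw [hTd]
    obtain ⟨m, hm⟩ : ∃ m, H.index = p * m + 1 := by
      refine ⟨H.index / p, ?_⟩
      have h2 := hidx
      unfold Nat.ModEq at h2
      rw [Nat.one_mod_eq_one.mpr (Fact.out : p.Prime).ne_one] at h2
      have := Nat.div_add_mod H.index p
      omega
    rw [hm, pow_succ, pow_mul, hA, one_pow, one_mul, mul_inv_cancel]
  intro h
  have htop : ((P.subtype hPH : Sylow p H) : Subgroup H) ⊔ Cfsg.pResidual p H = ⊤ :=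
    Transfer.sylow_sup_eq_top _
  have hker : ((P.subtype hPH : Sylow p H) : Subgroup H) ⊔ Cfsg.pResidual p H ≤ d.ker :=
    sup_le (fun u hu => hd0 u hu) (Transfer.pResidual_le_ker (fun a => ⟨1, by rw [pow_one]; exact hA a⟩) d)
  have h1 : d h = 1 := hker (htop ▸ mem_top h)
  rw [hd, MonoidHom.mul_apply, MonoidHom.inv_apply, MonoidHom.comp_apply, mul_inv_eq_one] at h1
  exact h1.symm

/-- Hall and Wielandt. -/
theorem pResidual_inf_eq :
    Cfsg.pResidualOf p (normalizer (Q : Set G)) = Cfsg.pResidual p G ⊓ normalizer (Q : Set G) := by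
  rw [inf_comm]
  refine (Transfer.tate_of_extend _ (fun h => P.not_dvd_index (h.trans (index_dvd_of_le (sylow_le_normalizer P Q hQ))))
    fun A _ hA δ => ?_).symm
  exact extend_hom P Q hQ hE (fun a => hA ▸ pow_card_eq_one') rfl δ

end Setup

end Cfsg.Agent.HallWielandt
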